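import Groth.Agent.DiffExt93.Loc
import Groth.Agent.Omega.PPOp
import Groth.Agent.RelFP.Scheme
import Mathlib.AlgebraicGeometry.AffineScheme

/-! Differential operators on global sections extend to sheaves on an affine scheme. -/

set_option autoImplicit false
set_option linter.unusedSectionVars false

universe u

open CategoryTheory CategoryTheory.Limits AlgebraicGeometry TopologicalSpace Opposite

noncomputable section

namespace Groth.Agent.DiffExt93

open scoped Groth.Agent.Omega.PPOp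
open Groth.Agent.Omega.PPOp (Zu stalkD)
open Groth.Agent.PullStalk.Sky Groth.Agent.PullStalk.Basic Groth.Agent.Omega.Stalks
open Groth.Agent.QCoh

variable {X : Scheme.{u}}

/-- sections over an open as a module over global functions -/
abbrev topMod (M : X.Modules) (W : X.Opens) : Module Γ(X, ⊤) Γ(M, W) :=
  RelFP.resModule M le_top

/-- stalks as modules over global functions -/
abbrev topModStalk (M : X.Modules) (x : X) : Module Γ(X, ⊤) (M.presheaf.stalk x) :=
  Module.compHom _ (X.presheaf.germ ⊤ x trivial).hom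

theorem rres_rres {U V W : X.Opens} (h₁ : V ≤ U) (h₂ : W ≤ V) (r : Γ(X, U)) :
    rres h₂ (rres h₁ r) = rres (h₂.trans h₁) r := by
  show X.presheaf.map _ (X.presheaf.map _ r) = X.presheaf.map _ r
  rw [← ConcreteCategory.comp_apply, ← Functor.map_comp]
  rfl

theorem res_topSmul (M : X.Modules) {V W : X.Opens} (h : W ≤ V) (a : Γ(X, ⊤)) (t : Γ(M, V)) :
    res M h (rres (le_top : V ≤ ⊤) a • t) = rres (le_top : W ≤ ⊤) a • res M h t := by
  rw [res_smul, rres_rres]

variable [IsAffine X] {F G : X.Modules} [F.IsQuasicoherent]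

theorem bij_basicOpen (g : Γ(X, ⊤)) (N : X.Modules) {W : X.Opens} (hW : W ≤ X.basicOpen g)
    (s : Submonoid.powers g) :
    letI := topMod N W
    Function.Bijective fun n : Γ(N, W) => (s : Γ(X, ⊤)) • n := by
  letI := topMod N W
  obtain ⟨_, n, rfl⟩ := s
  have hu : IsUnit (rres (le_top : W ≤ ⊤) (g ^ n)) := by
    rw [← rres_rres (X.basicOpen_le g) hW, map_pow]
    exact ((RelFP.isUnit_rres_basicOpen g).pow n).map _
  obtain ⟨v, hv⟩ := hu
  constructor
  · intro a b hab
    exact (Units.isUnit v).smul_left_cancel.1 (by rw [hv]; exact hab)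
  · intro b
    refine ⟨(↑v⁻¹ : Γ(X, W)) • b, ?_⟩
    show rres (le_top : W ≤ ⊤) (g ^ n) • (↑v⁻¹ : Γ(X, W)) • b = b
    rw [← hv, smul_smul, v.mul_inv, one_smul]

/-- the extension to all basic opens -/
theorem exists_sheafHom (k : ℕ)
    (D' : Γ(F, ⊤) →ₗ[Zu.{u}] Γ(G, ⊤))
    (hD : Diff16.IsDiffOpLE Zu.{u} Γ(X, ⊤) Γ(F, ⊤) Γ(G, ⊤) k D') :
    ∃ D : F.presheaf ⟶ G.presheaf, (∀ m, (D.app (op ⊤)).hom m = D' m) ∧
      (∀ x : X, letI := topModStalk F x; letI := topModStalk G x;
        Diff16.IsDiffOpLE Zu.{u} Γ(X, ⊤) (F.presheaf.stalk x) (G.presheaf.stalk x) k (stalkD D x)) ∧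
      ∀ a : Γ(X, ⊤), (∀ m, D' (a • m) = a • D' m) →
        ∀ (x : X) (t : F.presheaf.stalk x),
          stalkD D x (X.presheaf.germ ⊤ x trivial a • t) = X.presheaf.germ ⊤ x trivial a • stalkD D x t := by
  letI : ∀ g : Γ(X, ⊤), Module Γ(X, ⊤) Γ(F, X.basicOpen g) := fun g => topMod F _
  letI : ∀ g : Γ(X, ⊤), Module Γ(X, ⊤) Γ(G, X.basicOpen g) := fun g => topMod G _
  let ι : ∀ g : Γ(X, ⊤), Γ(F, ⊤) →ₗ[Γ(X, ⊤)] Γ(F, X.basicOpen g) := fun g => RelFP.resLin F g
  have hloc : ∀ g, IsLocalizedModule (Submonoid.powers g) (ι g) := fun g =>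
    RelFP.isLocalizedModule_resLin F (isAffineOpen_top X) g
  let rF : ∀ {b a : Γ(X, ⊤)}, X.basicOpen a ≤ X.basicOpen b →
      (Γ(F, X.basicOpen b) →ₗ[Γ(X, ⊤)] Γ(F, X.basicOpen a)) := fun {b a} h =>
    { toFun := res F h
      map_add' := map_add _
      map_smul' := fun a t => res_topSmul F h a t }
  let rG : ∀ {b a : Γ(X, ⊤)}, X.basicOpen a ≤ X.basicOpen b →
      (Γ(G, X.basicOpen b) →ₗ[Γ(X, ⊤)] Γ(G, X.basicOpen a)) := fun {b a} h =>
    { toFun := res G h
      map_add' := map_add _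
      map_smul' := fun a t => res_topSmul G h a t }
  have hex : ∀ g, ∃ E : Γ(F, X.basicOpen g) →ₗ[Zu.{u}] Γ(G, X.basicOpen g),
      Diff16.IsDiffOpLE Zu.{u} Γ(X, ⊤) _ _ k E ∧
        ∀ m, E (ι g m) = res G (X.basicOpen_le g) (D' m) := fun g =>
    haveI := hloc g
    exists_ext (Submonoid.powers g) (ι g) (bij_basicOpen g G le_rfl) k
      ((RelFP.resLin G g).restrictScalars Zu.{u} ∘ₗ D')
      (Groth.Agent.Diff16.IsDiffOpLE.comp_le k (n := k) (n' := 0) rfl hD
        fun b n => (RelFP.resLin G g).map_smul b n)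
  choose E hE hEι using hex
  have hnat : ∀ a b : Γ(X, ⊤), ∀ h : X.basicOpen a ≤ X.basicOpen b, ∀ t,
      E a (res F h t) = res G h (E b t) := by
    intro a b h
    haveI := hloc b
    have h1 : Diff16.IsDiffOpLE Zu.{u} Γ(X, ⊤) _ _ k (E a ∘ₗ (rF h).restrictScalars Zu.{u}) :=
      Groth.Agent.Diff16.IsDiffOpLE.comp_le k (n := 0) (n' := k) (zero_add k)
        (fun c n => (rF h).map_smul c n) (hE a)
    have h2 : Diff16.IsDiffOpLE Zu.{u} Γ(X, ⊤) _ _ k ((rG h).restrictScalars Zu.{u} ∘ₗ E b) :=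
      Groth.Agent.Diff16.IsDiffOpLE.comp_le k (n := k) (n' := 0) rfl (hE b)
        fun c n => (rG h).map_smul c n
    have := ext_unique (Submonoid.powers b) (ι b) (bij_basicOpen b G h) h1 h2 fun m => by
      show E a (res F h (res F (X.basicOpen_le b) m)) = res G h (E b (ι b m))
      rw [res_res, hEι, res_res]
      exact hEι a m
    exact fun t => LinearMap.congr_fun this t
  let Bf : Γ(X, ⊤) → X.Opens := X.basicOpen
  have hB : Opens.IsBasis (Set.range Bf) := isBasis_basicOpen X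
  let α : (inducedFunctor Bf).op ⋙ F.presheaf ⟶ (inducedFunctor Bf).op ⋙ G.presheaf :=
    { app := fun g => AddCommGrpCat.ofHom (E g.unop).toAddMonoidHom
      naturality := fun g g' i => by
        ext t
        exact hnat g'.unop g.unop (leOfHom i.unop.hom) t }
  let F' : TopCat.Sheaf Ab.{u} X.toTopCat := (SheafOfModules.toSheaf X.ringCatSheaf).obj G
  let D : F.presheaf ⟶ G.presheaf := TopCat.Sheaf.restrictHomEquivHom F.presheaf F' hB α
  have hDg : ∀ g t, (D.app (op (X.basicOpen g))).hom t = E g t := fun g t => by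
    have := TopCat.Sheaf.extend_hom_app F.presheaf F' hB α g
    exact congr($(this) t)
  have hgerm : ∀ (g : Γ(X, ⊤)) (x : X) (hx : x ∈ X.basicOpen g) (t : Γ(F, X.basicOpen g)),
      stalkD D x (germM F _ x hx t) = germM G _ x hx (E g t) := fun g x hx t => by
    rw [Groth.Agent.Omega.PPOp.stalkD_germ, ← hDg]
  have hsurj : ∀ (x : X) (τ : F.presheaf.stalk x),
      ∃ (g : Γ(X, ⊤)) (hx : x ∈ X.basicOpen g) (t : Γ(F, X.basicOpen g)), germM F _ x hx t = τ := by
    intro x τ
    obtain ⟨U, hx, t, rfl⟩ := exists_germM_eq F x τ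
    obtain ⟨_, ⟨_, ⟨g, rfl⟩, rfl⟩, hxg, hgU⟩ := hB.exists_subset_of_mem_open hx U.isOpen
    exact ⟨g, hxg, F.presheaf.map (homOfLE hgU).op t, F.presheaf.germ_res_apply (homOfLE hgU) x hxg t⟩
  refine ⟨D, fun m => ?_, fun x => ?_, fun a ha x t => ?_⟩
  · have h1 : X.basicOpen (1 : Γ(X, ⊤)) = ⊤ := Scheme.basicOpen_of_isUnit X isUnit_one
    have hn : (D.app (op (X.basicOpen (1 : Γ(X, ⊤))))).hom (res F (X.basicOpen_le 1) m) =
        res G (X.basicOpen_le 1) ((D.app (op ⊤)).hom m) :=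
      congr($(D.naturality (homOfLE (X.basicOpen_le (1 : Γ(X, ⊤)))).op) m)
    rw [hDg] at hn
    have hm := (hEι 1 m).symm.trans hn
    have hinv : ∀ y : Γ(G, ⊤), res G h1.ge (res G (X.basicOpen_le 1) y) = y := fun y => by
      rw [res_res]; exact res_self G _ y
    rw [← hinv ((D.app (op ⊤)).hom m), ← hm, hinv]
  · letI := topModStalk F x
    letI := topModStalk G x
    let σ := {g : Γ(X, ⊤) // x ∈ X.basicOpen g}
    let p : ∀ i : σ, Γ(F, X.basicOpen i.1) →ₗ[Γ(X, ⊤)] F.presheaf.stalk x := fun i =>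
      { toFun := germM F _ x i.2
        map_add' := map_add _
        map_smul' := fun b t => (germM_smul F _ x i.2 _ t).trans
          (congrArg (· • germM F _ x i.2 t) (X.presheaf.germ_res_apply _ x i.2 b)) }
    let q : ∀ i : σ, Γ(G, X.basicOpen i.1) →ₗ[Γ(X, ⊤)] G.presheaf.stalk x := fun i =>
      { toFun := germM G _ x i.2
        map_add' := map_add _
        map_smul' := fun b t => (germM_smul G _ x i.2 _ t).trans
          (congrArg (· • germM G _ x i.2 t) (X.presheaf.germ_res_apply _ x i.2 b)) }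
    refine isDiffOpLE_of_intertwine p q (fun τ => ?_) k (stalkD D x) (fun i : σ => E i.1) (fun i => hE i.1)
      fun i t => hgerm i.1 x i.2 t
    obtain ⟨g, hx, t, ht⟩ := hsurj x τ
    exact ⟨⟨g, hx⟩, t, ht⟩
  · obtain ⟨g, hx, t, rfl⟩ := hsurj x t
    haveI := hloc g
    have hc : Diff16.IsDiffOpLE Zu.{u} Γ(X, ⊤) _ _ k (Diff16.commutator Zu.{u} Γ(X, ⊤) _ _ (E g) a) := by
      cases k with
      | zero => rw [(Groth.Agent.Diff16.isDiffOpLE_zero_iff_comm _).1 (hE g)]; exact Groth.Agent.Diff16.IsDiffOpLE.zero 0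
      | succ i => exact Groth.Agent.Diff16.IsDiffOpLE.succ (hE g a)
    have h0 := ext_unique (Submonoid.powers g) (ι g) (bij_basicOpen g G le_rfl) hc
      (Groth.Agent.Diff16.IsDiffOpLE.zero k) fun m => by
        rw [Groth.Agent.Diff16.comm_apply, ← (ι g).map_smul, hEι, hEι, LinearMap.zero_apply]
        rw [ha, res_smul]
        exact sub_self _
    have h := LinearMap.congr_fun h0 t
    rw [Groth.Agent.Diff16.comm_apply, LinearMap.zero_apply, sub_eq_zero] at h
    have e : X.presheaf.germ ⊤ x trivial a = X.presheaf.germ (X.basicOpen g) x hx (rres le_top a) :=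
      (X.presheaf.germ_res_apply (homOfLE le_top) x hx a).symm
    rw [e, ← germM_smul, hgerm, hgerm, ← germM_smul]
    exact congrArg (germM G _ x hx) h

end Groth.Agent.DiffExt93

end
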