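import Groth.Agent.Diff16.Basic
import Mathlib.Algebra.Module.LocalizedModule.Basic
import Mathlib.Tactic.LinearCombination
import Mathlib.Tactic.Module

/-! Differential operators extend uniquely to localized modules. -/

set_option autoImplicit false
set_option linter.unusedSectionVars false

namespace Groth.Agent.DiffExt93

open _root_.Diff16 Groth.Agent.Diff16

universe u

variable {A B : Type u} [CommRing A] [CommRing B] [Algebra A B]
variable {M M' N : Type u} [AddCommGroup M] [Module A M] [Module B M] [IsScalarTower A B M]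
  [AddCommGroup M'] [Module A M'] [Module B M'] [IsScalarTower A B M']
  [AddCommGroup N] [Module A N] [Module B N] [IsScalarTower A B N]

variable (S : Submonoid B) (ι : M →ₗ[B] M') [IsLocalizedModule S ι]

theorem eq_zero_of_ext (hN : ∀ s : S, Function.Bijective fun n : N => (s : B) • n) :
    ∀ (k : ℕ) (E : M' →ₗ[A] N), IsDiffOpLE A B M' N k E → (∀ m, E (ι m) = 0) → E = 0 := by
  intro k
  induction k with
  | zero =>
    intro E hE h
    ext x
    obtain ⟨⟨m, s⟩, hs⟩ := IsLocalizedModule.surj S ι x
    apply (hN s).1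
    show (s : B) • E x = (s : B) • (0 : M' →ₗ[A] N) x
    rw [← hE, LinearMap.zero_apply, smul_zero, ← h m, ← hs]
    rfl
  | succ k ih =>
    intro E hE h
    ext x
    obtain ⟨⟨m, s⟩, hs⟩ := IsLocalizedModule.surj S ι x
    have hc := ih _ (hE (s : B)) fun m => by
      rw [comm_apply, ← map_smul, h, h, smul_zero, sub_zero]
    have hx := LinearMap.congr_fun hc x
    rw [comm_apply, LinearMap.zero_apply, sub_eq_zero] at hx
    apply (hN s).1
    show (s : B) • E x = (s : B) • (0 : M' →ₗ[A] N) x
    rw [LinearMap.zero_apply, smul_zero, ← hx, ← h m, ← hs]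
    rfl

theorem ext_unique (hN : ∀ s : S, Function.Bijective fun n : N => (s : B) • n) {k : ℕ}
    {E E' : M' →ₗ[A] N} (hE : IsDiffOpLE A B M' N k E) (hE' : IsDiffOpLE A B M' N k E')
    (h : ∀ m, E (ι m) = E' (ι m)) : E = E' :=
  sub_eq_zero.1 (eq_zero_of_ext S ι hN k (E - E') (IsDiffOpLE.sub hE hE') fun m => by simp [h])

theorem comm_comp_linear {P Q : Type u} [AddCommGroup P] [Module A P] [Module B P] [IsScalarTower A B P]
    [AddCommGroup Q] [Module A Q] [Module B Q] [IsScalarTower A B Q]
    (D : M →ₗ[A] N) (E : P →ₗ[A] Q) (p : M →ₗ[B] P) (q : N →ₗ[B] Q)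
    (h : ∀ m, E (p m) = q (D m)) (b : B) (m : M) :
    commutator A B P Q E b (p m) = q (commutator A B M N D b m) := by
  rw [comm_apply, comm_apply, ← p.map_smul, h, h, map_sub, q.map_smul]

/-- construction of the extension from the extensions of the commutators -/
theorem exists_of_comm (hN : ∀ s : S, Function.Bijective fun n : N => (s : B) • n) (D : M →ₗ[A] N)
    (j : ℕ) (C : B → M' →ₗ[A] N) (hC : ∀ b, IsDiffOpLE A B M' N j (C b))
    (hCι : ∀ b m, C b (ι m) = commutator A B M N D b m) :
    ∃ E : M' →ₗ[A] N, (∀ m, E (ι m) = D m) ∧ ∀ b, commutator A B M' N E b = C b := by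
  classical
  choose inv hinv using fun (s : S) (n : N) => (hN s).2 n
  have hinv' : ∀ (s : S) (n : N), inv s ((s : B) • n) = n := fun s n => (hN s).1 (hinv s _)
  -- cocycle identities for `C`
  have hCadd : ∀ b c, C (b * c) = (C b) ∘ₗ (LinearMap.lsmul B M' c).restrictScalars A + b • C c := by
    intro b c
    refine ext_unique S ι hN (hC _)
      (IsDiffOpLE.add (IsDiffOpLE.comp_lsmul c (hC b)) (IsDiffOpLE.smul b (hC c))) fun m => ?_
    rw [LinearMap.add_apply, LinearMap.comp_apply, LinearMap.smul_apply, LinearMap.restrictScalars_apply,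
      LinearMap.lsmul_apply, ← map_smul, hCι, hCι, hCι, comm_mul]
    rfl
  have hC1 : C 1 = 0 := by
    refine ext_unique S ι hN (hC _) (IsDiffOpLE.zero j) fun m => ?_
    rw [hCι, comm_apply, one_smul, one_smul, sub_self, LinearMap.zero_apply]
  have hCC : ∀ b c x, C b (c • x) - c • C b x = C c (b • x) - b • C c x := by
    intro b c x
    have := LinearMap.congr_fun (ext_unique S ι hN (k := j)
      (E := commutator A B M' N (C b) c) (E' := commutator A B M' N (C c) b)
      (by cases j with
        | zero => rw [(isDiffOpLE_zero_iff_comm _).1 (hC b)]; exact IsDiffOpLE.zero 0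
        | succ i => exact IsDiffOpLE.succ (hC b c))
      (by cases j with
        | zero => rw [(isDiffOpLE_zero_iff_comm _).1 (hC c)]; exact IsDiffOpLE.zero 0
        | succ i => exact IsDiffOpLE.succ (hC c b)) fun m => by
      rw [comm_apply, comm_apply, ← ι.map_smul, ← ι.map_smul, hCι, hCι, hCι, hCι]
      exact LinearMap.congr_fun (comm_comm D b c) m) x
    simpa only [comm_apply] using this
  let g : M → S → N := fun m s => inv s (D m - C (s : B) (IsLocalizedModule.mk' ι m s))
  have hg : ∀ m (s : S), (s : B) • g m s = D m - C (s : B) (IsLocalizedModule.mk' ι m s) :=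
    fun m s => hinv s _
  have hkey : ∀ (m : M) (s t : S), g ((t : B) • m) (t * s) = g m s := by
    intro m s t
    apply (hN (t * s)).1
    show ((t * s : S) : B) • g ((t : B) • m) (t * s) = ((t * s : S) : B) • g m s
    rw [hg, Submonoid.coe_mul, mul_smul, hg, smul_sub, hCadd (t : B) (s : B)]
    have hmk : IsLocalizedModule.mk' ι ((t : B) • m) (t * s) = IsLocalizedModule.mk' ι m s :=
      IsLocalizedModule.mk'_cancel_left (f := ι) m t s
    rw [hmk, LinearMap.add_apply, LinearMap.comp_apply, LinearMap.smul_apply,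
      LinearMap.restrictScalars_apply, LinearMap.lsmul_apply,
      show (s : B) • IsLocalizedModule.mk' ι m s = ι m from IsLocalizedModule.mk'_cancel' ι m s,
      hCι, comm_apply]
    abel
  have hwd : ∀ m m' (s s' : S), IsLocalizedModule.mk' ι m s = IsLocalizedModule.mk' ι m' s' →
      g m s = g m' s' := by
    intro m m' s s' h
    obtain ⟨t, ht⟩ := (IsLocalizedModule.mk'_eq_mk'_iff ι m m' s s').1 h
    rw [← hkey m s (t * s'), ← hkey m' s' (t * s)]
    have h1 : ((t * s' : S) : B) • m = ((t * s : S) : B) • m' := by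
      simpa [Submonoid.smul_def, mul_smul] using ht.symm
    rw [h1, show t * s' * s = t * s * s' from mul_right_comm t s' s]
  choose r hr using fun x : M' => IsLocalizedModule.surj S ι x
  let E0 : M' → N := fun x => g (r x).1 (r x).2
  have hE0 : ∀ m s, E0 (IsLocalizedModule.mk' ι m s) = g m s := by
    intro m s
    refine hwd _ _ _ _ ?_
    rw [IsLocalizedModule.mk'_eq_iff]
    exact (hr _).symm
  have hmk : ∀ x, ∃ m s, IsLocalizedModule.mk' ι m s = x := fun x =>
    ⟨(r x).1, (r x).2, by rw [IsLocalizedModule.mk'_eq_iff]; exact (hr x).symm⟩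
  let E : M' →ₗ[A] N :=
    { toFun := E0
      map_add' := fun x y => by
        obtain ⟨m, s, rfl⟩ := hmk x
        obtain ⟨m', s', rfl⟩ := hmk y
        rw [IsLocalizedModule.mk'_add_mk', hE0, hE0, hE0, ← hkey m s s', ← hkey m' s' s, mul_comm s' s]
        simp only [Submonoid.smul_def]
        apply (hN (s * s')).1
        show ((s * s' : S) : B) • g _ (s * s') = ((s * s' : S) : B) • (g _ (s * s') + g _ (s * s'))
        rw [smul_add, hg, hg, hg, map_add, IsLocalizedModule.mk'_add, map_add]
        abel
      map_smul' := fun a x => by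
        obtain ⟨m, s, rfl⟩ := hmk x
        have h1 : a • IsLocalizedModule.mk' ι m s = IsLocalizedModule.mk' ι (a • m) s := by
          rw [← algebraMap_smul B a (IsLocalizedModule.mk' ι m s), ← algebraMap_smul B a m,
            IsLocalizedModule.mk'_smul]
        rw [RingHom.id_apply, h1, hE0, hE0]
        apply (hN s).1
        show (s : B) • g (a • m) s = (s : B) • a • g m s
        rw [hg, smul_comm, hg, ← h1, map_smul, map_smul, smul_sub] }
  have hEι : ∀ m, E (ι m) = D m := by
    intro m
    show E0 (ι m) = D m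
    rw [← IsLocalizedModule.mk'_one S ι m, hE0]
    have := hg m 1
    rwa [Submonoid.coe_one, one_smul, hC1, LinearMap.zero_apply, sub_zero] at this
  refine ⟨E, hEι, fun b => ?_⟩
  ext x
  obtain ⟨m, s, rfl⟩ := hmk x
  rw [comm_apply]
  show E0 _ - b • E0 _ = _
  rw [← IsLocalizedModule.mk'_smul, hE0, hE0, sub_eq_iff_eq_add]
  apply (hN s).1
  show (s : B) • g (b • m) s = (s : B) • (C b (IsLocalizedModule.mk' ι m s) + b • g m s)
  rw [hg, smul_add, smul_comm (s : B) b, hg, smul_sub, IsLocalizedModule.mk'_smul]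
  have h1 := hCC b (s : B) (IsLocalizedModule.mk' ι m s)
  rw [show (s : B) • IsLocalizedModule.mk' ι m s = ι m from IsLocalizedModule.mk'_cancel' ι m s,
    hCι, comm_apply, sub_eq_sub_iff_add_eq_add] at h1
  rw [sub_eq_iff_eq_add]
  linear_combination (norm := module) h1

theorem exists_ext (hN : ∀ s : S, Function.Bijective fun n : N => (s : B) • n) :
    ∀ (k : ℕ) (D : M →ₗ[A] N), IsDiffOpLE A B M N k D →
      ∃ E : M' →ₗ[A] N, IsDiffOpLE A B M' N k E ∧ ∀ m, E (ι m) = D m := by
  intro k
  induction k with
  | zero =>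
    intro D hD
    obtain ⟨E, hE, hEc⟩ := exists_of_comm S ι hN D 0 (fun _ => 0) (fun _ => IsDiffOpLE.zero 0)
      fun b m => by rw [(isDiffOpLE_zero_iff_comm D).1 hD b]; rfl
    exact ⟨E, (isDiffOpLE_zero_iff_comm E).2 hEc, hE⟩
  | succ k ih =>
    intro D hD
    choose C hC hCι using fun b => ih _ (hD b)
    obtain ⟨E, hE, hEc⟩ := exists_of_comm S ι hN D k C hC hCι
    exact ⟨E, fun b => by rw [hEc b]; exact hC b, hE⟩

/-- order is inherited by jointly surjective intertwined operators -/
theorem isDiffOpLE_of_intertwine {σ : Type*} {P Q : σ → Type u}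
    [∀ i, AddCommGroup (P i)] [∀ i, Module A (P i)] [∀ i, Module B (P i)] [∀ i, IsScalarTower A B (P i)]
    [∀ i, AddCommGroup (Q i)] [∀ i, Module A (Q i)] [∀ i, Module B (Q i)] [∀ i, IsScalarTower A B (Q i)]
    (p : ∀ i, P i →ₗ[B] M) (q : ∀ i, Q i →ₗ[B] N) (hp : ∀ x, ∃ i y, p i y = x) :
    ∀ (k : ℕ) (D : M →ₗ[A] N) (E : ∀ i, P i →ₗ[A] Q i), (∀ i, IsDiffOpLE A B (P i) (Q i) k (E i)) →
      (∀ i y, D (p i y) = q i (E i y)) → IsDiffOpLE A B M N k D := by
  intro k
  induction k with
  | zero =>
    intro D E hE h b x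
    obtain ⟨i, y, rfl⟩ := hp x
    rw [← map_smul, h, h, hE i b y, map_smul]
  | succ k ih =>
    intro D E hE h b
    exact ih _ _ (fun i => hE i b) fun i y => comm_comp_linear (E i) D (p i) (q i) (h i) b y

/-- transfer between two bases -/
theorem isDiffOpLE_congr_base {A' : Type u} [CommRing A'] [Algebra A' B] [Module A' M] [IsScalarTower A' B M]
    [Module A' N] [IsScalarTower A' B N] :
    ∀ (k : ℕ) (D : M →ₗ[A] N) (D₂ : M →ₗ[A'] N), (∀ m, D₂ m = D m) → IsDiffOpLE A B M N k D →
      IsDiffOpLE A' B M N k D₂ := by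
  intro k
  induction k with
  | zero => intro D D₂ h hD b m; rw [h, h, hD]
  | succ k ih => intro D D₂ h hD b; exact ih _ _ (fun m => by rw [comm_apply, comm_apply, h, h]) (hD b)

/-- order over a ring gives the order over a localization of it -/
theorem isDiffOpLE_of_localization {B' : Type u} [CommRing B'] [Algebra A B'] [Algebra B B']
    [IsScalarTower A B B'] (T : Submonoid B) [IsLocalization T B']
    [Module B' M] [IsScalarTower A B' M] [IsScalarTower B B' M]
    [Module B' N] [IsScalarTower A B' N] [IsScalarTower B B' N] :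
    ∀ (k : ℕ) (D : M →ₗ[A] N), IsDiffOpLE A B M N k D → IsDiffOpLE A B' M N k D := by
  intro k
  induction k with
  | zero =>
    intro D hD c m
    obtain ⟨⟨b, s⟩, hs⟩ := IsLocalization.surj T c
    have hu := IsLocalization.map_units B' s
    apply hu.smul_left_cancel.1
    rw [algebraMap_smul, ← hD, ← algebraMap_smul B' (s : B) (c • m), smul_smul, mul_comm, hs,
      algebraMap_smul, hD, smul_smul, mul_comm, hs, algebraMap_smul]
  | succ k ih =>
    intro D hD c
    obtain ⟨⟨b, s⟩, hs⟩ := IsLocalization.surj T c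
    obtain ⟨v, hv⟩ := IsLocalization.map_units B' s
    have hb : ∀ b : B, IsDiffOpLE A B' M N k (commutator A B' M N D (algebraMap B B' b)) := by
      intro b
      have : commutator A B' M N D (algebraMap B B' b) = commutator A B M N D b := by
        ext m; simp [comm_apply, algebraMap_smul]
      rw [this]
      exact ih _ (hD b)
    have key : commutator A B' M N D c =
        (commutator A B' M N D (algebraMap B B' b) - c • commutator A B' M N D (algebraMap B B' s)) ∘ₗ
          (LinearMap.lsmul B' M (↑v⁻¹ : B')).restrictScalars A := by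
      rw [← hs, comm_mul, add_sub_cancel_right]
      ext m
      show commutator A B' M N D c m =
        commutator A B' M N D c (algebraMap B B' s • (↑v⁻¹ : B') • m)
      rw [← hv, smul_smul, v.mul_inv, one_smul]
    rw [key]
    exact IsDiffOpLE.comp_lsmul _ (IsDiffOpLE.sub (hb b) (IsDiffOpLE.smul c (hb (s : B))))

end Groth.Agent.DiffExt93
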